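import Cfsg.Agent.Chev.Bruhat

/-! The centralizer of a regular element of the diagonal subgroup. -/

set_option autoImplicit false

open Cfsg.Lie

namespace Cfsg.Lib.Chev

variable {D : ChevalleyDatum} {C : Cert} {F : Type*} [Field F]

/-- The value of a root on the parameters of a diagonal element. -/
def chi (D : ChevalleyDatum) (c : Fin D.rank → Fˣ) (r : ℕ) : Fˣ := ∏ i, c i ^ D.cartan i r

namespace Struct

theorem tG_mem_diag (S : Struct D C) (c : Fin D.rank → Fˣ) : Ok.tG D F c ∈ D.diagonalSubgroup F := by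
  rw [S.ok.diagonalSubgroup_eq]; exact ⟨c, rfl⟩

theorem diag_comm (S : Struct D C) {a b : GL D.Idx F} (ha : a ∈ D.diagonalSubgroup F)
    (hb : b ∈ D.diagonalSubgroup F) : a * b = b * a := by
  rw [S.ok.diagonalSubgroup_eq] at ha hb
  obtain ⟨x, rfl⟩ := ha
  obtain ⟨y, rfl⟩ := hb
  rw [← map_mul, ← map_mul, mul_comm]

theorem conjTG_pw (S : Struct D C) (c : Fin D.rank → Fˣ) (k : ℕ) (t : ℕ → F) :
    MulAut.conj (Ok.tG D F c) (S.pw k t) = S.pw k (fun r => (chi D c r : F) * t r) := by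
  unfold pw
  rw [map_list_prod, List.map_map]
  congr 1
  refine List.map_congr_left fun r hr => ?_
  rw [List.mem_range'_1] at hr
  rw [Function.comp_apply, MulAut.conj_apply]
  exact S.tG_conj_xG (by omega) c (t r)

theorem fixed_U (S : Struct D C) {c : Fin D.rank → Fˣ} (h1 : ∀ r < D.nroots, chi D c r ≠ 1)
    {u : GL D.Idx F} (hu : u ∈ D.posUnipotent F) (hfix : MulAut.conj (Ok.tG D F c) u = u) : u = 1 := by
  have hs := S.hsum
  rw [S.posUnipotent_eq] at hu
  obtain ⟨t, rfl⟩ := S.exists_pw (D.nroots - D.nroots / 2) (D.nroots / 2) (by omega) le_rfl u hu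
  rw [S.conjTG_pw] at hfix
  have h := S.pw_inj (D.nroots - D.nroots / 2) (D.nroots / 2) (by omega) le_rfl _ _ hfix
  unfold pw
  refine List.prod_eq_one fun g hg => ?_
  obtain ⟨r, hr, rfl⟩ := List.mem_map.1 hg
  rw [List.mem_range'_1] at hr
  have e := h r hr.1 (by omega)
  have hne : (chi D c r : F) - 1 ≠ 0 := sub_ne_zero.2 fun e => h1 r (by omega) (Units.ext e)
  have h0 : t r = 0 := (mul_eq_zero.1 (show ((chi D c r : F) - 1) * t r = 0 by linear_combination e)).resolve_left hne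
  rw [h0]
  exact S.xG_zero r

/-- An element commuting with a regular diagonal element is diagonal. -/
theorem centralizer_regular (S : Struct D C) (hN : okNeg D = true) {c : Fin D.rank → Fˣ}
    (h1 : ∀ r < D.nroots, chi D c r ≠ 1)
    (hinj : ∀ r < D.nroots, ∀ s < D.nroots, chi D c r = chi D c s → r = s)
    {g : GL D.Idx F} (hg : g ∈ D.group F) (hcomm : g * Ok.tG D F c = Ok.tG D F c * g) :
    g ∈ D.diagonalSubgroup F := by
  set x := Ok.tG D F c
  have hx : x ∈ D.diagonalSubgroup F := S.tG_mem_diag c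
  obtain ⟨b, hb, n, hn, L, hact, u, hu, rfl⟩ := S.normal_form hN hg
  have hxu : x * u * x⁻¹ ∈ S.UPsi F (Neg D (S.wpL L)) := by
    have hle : S.UPsi F (Neg D (S.wpL L)) ≤ (S.UPsi F (Neg D (S.wpL L))).comap (MulAut.conj x).toMonoidHom := by
      refine (Subgroup.closure_le _).2 ?_
      rintro y ⟨r, t, a, p, rfl⟩
      show x * S.ok.xG r.val t * x⁻¹ ∈ S.UPsi F (Neg D (S.wpL L))
      rw [S.tG_conj_xG r.isLt]
      exact Subgroup.subset_closure ⟨r, _, a, p, rfl⟩
    exact hle hu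
  have hxn : n * x⁻¹ * n⁻¹ ∈ D.diagonalSubgroup F := S.norm_diag hn (inv_mem hx)
  have hb' : x * b * (n * x⁻¹ * n⁻¹) ∈ D.borelSubgroup F :=
    mul_mem (mul_mem (Subgroup.mem_sup_right hx) hb) (Subgroup.mem_sup_right hxn)
  have e : x * b * (n * x⁻¹ * n⁻¹) * n * (x * u * x⁻¹) = b * n * u := by
    calc x * b * (n * x⁻¹ * n⁻¹) * n * (x * u * x⁻¹) = x * (b * n * u) * x⁻¹ := by group
      _ = b * n * u := by rw [← hcomm]; group
  obtain ⟨eb, eu⟩ := S.normal_form_unique hN hb' hb hact hxu hu e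
  have hu1 : u = 1 := S.fixed_U h1 (S.UPsi_le _ hu) eu
  obtain ⟨v, hv, d, hd, rfl⟩ := S.borel_decomp hb
  have hxv : x * v * x⁻¹ ∈ D.posUnipotent F :=
    (Subgroup.mem_normalizer_iff.1 (S.diag_normalises_U hx) v).1 hv
  have e2 : x * v * x⁻¹ = v * (d * (x * d * (n * x⁻¹ * n⁻¹))⁻¹) := by
    calc x * v * x⁻¹ = (x * (v * d) * (n * x⁻¹ * n⁻¹)) * (x * d * (n * x⁻¹ * n⁻¹))⁻¹ := by group
      _ = _ := by rw [eb, mul_assoc]
  have hdd : d * (x * d * (n * x⁻¹ * n⁻¹))⁻¹ ∈ D.diagonalSubgroup F :=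
    mul_mem hd (inv_mem (mul_mem (mul_mem hx hd) hxn))
  have h0 : d * (x * d * (n * x⁻¹ * n⁻¹))⁻¹ ∈ D.posUnipotent F ⊓ D.diagonalSubgroup F := by
    refine Subgroup.mem_inf.2 ⟨?_, hdd⟩
    rw [show d * (x * d * (n * x⁻¹ * n⁻¹))⁻¹ = v⁻¹ * (v * (d * (x * d * (n * x⁻¹ * n⁻¹))⁻¹)) by group, ← e2]
    exact mul_mem (inv_mem hv) hxv
  rw [S.U_inf_H, Subgroup.mem_bot] at h0
  rw [h0, mul_one] at e2
  have hv1 : v = 1 := S.fixed_U h1 hv e2
  have hnx : n * x * n⁻¹ = x := by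
    rw [mul_inv_eq_one, S.diag_comm hx hd, mul_assoc] at h0
    have h3 : x * (n * x⁻¹ * n⁻¹) = 1 := mul_eq_left.1 h0.symm
    have h6 := congrArg (·⁻¹) (eq_inv_of_mul_eq_one_right h3)
    simpa [mul_assoc] using h6
  have hw : S.wpL L = 1 := by
    refine Equiv.ext fun r => ?_
    obtain ⟨-, a, ha, hA⟩ := hact r
    have e3 : S.ok.xG (S.wpL L r).val (a * (chi D c r.val : F)) =
        S.ok.xG (S.wpL L r).val ((chi D c (S.wpL L r).val : F) * a) := by
      calc S.ok.xG (S.wpL L r).val (a * (chi D c r.val : F))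
          = n * (x * S.ok.xG r.val (1 : F) * x⁻¹) * n⁻¹ := by
            rw [S.tG_conj_xG r.isLt, mul_one, ← (hA _).1]; rfl
        _ = (n * x * n⁻¹) * (n * S.ok.xG r.val (1 : F) * n⁻¹) * (n * x * n⁻¹)⁻¹ := by group
        _ = _ := by rw [hnx, (hA _).1, mul_one, S.tG_conj_xG (Fin.isLt _)]; rfl
    have h4 := S.xG_eq_one (S.wpL L r).isLt
      (t := a * (chi D c r.val : F) + -((chi D c (S.wpL L r).val : F) * a))
      (by rw [← S.ok.xG_mul, ← S.ok.xG_inv, e3, mul_inv_cancel])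
    have h5 : (chi D c r.val : F) = chi D c (S.wpL L r).val := mul_left_cancel₀ ha (by linear_combination h4)
    exact Fin.ext (hinj _ r.isLt _ (Fin.isLt _) (Units.ext h5)).symm
  obtain ⟨L', hact', hiff⟩ := S.exists_act hn
  have hnd : n ∈ D.diagonalSubgroup F := hiff.1 ((S.act_unique hact' hact).trans hw)
  rw [hu1, hv1, mul_one, one_mul]
  exact mul_mem hd hnd

end Struct

end Cfsg.Lib.Chev
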