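import Cfsg.Agent.Chev.Types

/-! The weights of the roots of `G₂` at the element of order `q² + q + 1`. -/

set_option autoImplicit false

open Cfsg.Lie

namespace Cfsg.Lib.Chev.Singer

/-- The exponent of `r` at the parameters `(1 + q, 2 + q)`. -/
def expo (q : ℤ) (r : ℕ) : ℤ := (1 + q) * chevG2.cartan 0 r + (2 + q) * chevG2.cartan 1 r

theorem pair_bound : ∀ r < 12,
    |chevG2.cartan 0 r + 2 * chevG2.cartan 1 r| ≤ 2 ∧ |chevG2.cartan 0 r + chevG2.cartan 1 r| ≤ 2 ∧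
    ¬ (chevG2.cartan 0 r + 2 * chevG2.cartan 1 r = 0 ∧ chevG2.cartan 0 r + chevG2.cartan 1 r = 0) ∧
    ∀ s < 12, r ≠ s → ¬ (chevG2.cartan 0 r + 2 * chevG2.cartan 1 r = chevG2.cartan 0 s + 2 * chevG2.cartan 1 s ∧
      chevG2.cartan 0 r + chevG2.cartan 1 r = chevG2.cartan 0 s + chevG2.cartan 1 s) := by
  decide +kernel

theorem expo_three : ∀ r < 12, ¬ (13 : ℤ) ∣ expo 3 r ∧ ∀ s < 12, r ≠ s → ¬ (13 : ℤ) ∣ expo 3 r - expo 3 s := by
  decide +kernel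

theorem expo_four : ∀ r < 12, ¬ (21 : ℤ) ∣ expo 4 r ∧ ∀ s < 12, r ≠ s → ¬ (21 : ℤ) ∣ expo 4 r - expo 4 s := by
  decide +kernel

theorem small_comb {q a b : ℤ} (hq : 5 ≤ q) (ha : |a| ≤ 4) (hb : |b| ≤ 4)
    (h : q ^ 2 + q + 1 ∣ a + b * q) : a = 0 ∧ b = 0 := by
  obtain ⟨a1, a2⟩ := abs_le.1 ha
  obtain ⟨b1, b2⟩ := abs_le.1 hb
  have h0 : a + b * q = 0 := by
    refine Int.eq_zero_of_abs_lt_dvd h (abs_lt.2 ⟨?_, ?_⟩) <;> nlinarith
  have hb0 : b = 0 := by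
    rcases lt_trichotomy b 0 with hb' | hb' | hb'
    · nlinarith
    · exact hb'
    · nlinarith
  subst hb0
  simp at h0
  exact ⟨h0, rfl⟩

theorem expo_distinct {q : ℕ} (hq : 3 ≤ q) {r : ℕ} (hr : r < 12) :
    ¬ ((q : ℤ) ^ 2 + q + 1) ∣ expo q r ∧
      ∀ s < 12, r ≠ s → ¬ ((q : ℤ) ^ 2 + q + 1) ∣ expo q r - expo q s := by
  rcases (show q = 3 ∨ q = 4 ∨ 5 ≤ q by omega) with rfl | rfl | hq5
  · exact ⟨fun h => (expo_three r hr).1 (by norm_num at h ⊢; exact h),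
      fun s hs hne h => (expo_three r hr).2 s hs hne (by norm_num at h ⊢; exact h)⟩
  · exact ⟨fun h => (expo_four r hr).1 (by norm_num at h ⊢; exact h),
      fun s hs hne h => (expo_four r hr).2 s hs hne (by norm_num at h ⊢; exact h)⟩
  have hq' : (5 : ℤ) ≤ q := by exact_mod_cast hq5
  have e : ∀ r, expo q r = (chevG2.cartan 0 r + 2 * chevG2.cartan 1 r) +
      (chevG2.cartan 0 r + chevG2.cartan 1 r) * q := fun r => by unfold expo; ring
  obtain ⟨h1, h2, h3, h4⟩ := pair_bound r hr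
  refine ⟨fun h => h3 (small_comb hq' (by linarith) (by linarith) (e r ▸ h)), fun s hs hne h => ?_⟩
  obtain ⟨k1, k2, -, -⟩ := pair_bound s hs
  obtain ⟨u, v⟩ := small_comb (q := (q : ℤ))
    (a := (chevG2.cartan 0 r + 2 * chevG2.cartan 1 r) - (chevG2.cartan 0 s + 2 * chevG2.cartan 1 s))
    (b := (chevG2.cartan 0 r + chevG2.cartan 1 r) - (chevG2.cartan 0 s + chevG2.cartan 1 s)) hq'
    ((abs_sub _ _).trans (by linarith)) ((abs_sub _ _).trans (by linarith))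
    (by convert h using 1; rw [e, e]; ring)
  exact h4 s hs hne ⟨sub_eq_zero.1 u, sub_eq_zero.1 v⟩

end Cfsg.Lib.Chev.Singer
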