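import Cfsg.Agent.Chev.Types
import Cfsg.Agent.Chev.Basic
import Cfsg.Agent.Classical.SL
import Cfsg.Agent.S2401

/-! The special linear group of degree three on the long root elements of `G₂`. -/

set_option autoImplicit false

open Cfsg.Lie

namespace Cfsg.Lib.Chev.Singer

open Matrix

/-- The long root attached to an elementary matrix. -/
def root (i j : Fin 3) : ℕ :=
  ([[0, 6, 11], [5, 0, 10], [0, 1, 0]].getD i.val []).getD j.val 0

theorem root_lt : ∀ i j : Fin 3, root i j < chevG2.nroots := by decide +kernel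

theorem root_far : ∀ i j k l : Fin 3, i ≠ j → k ≠ l → i ≠ l → j ≠ k → (i, j) ≠ (k, l) →
    root i j ≠ root k l ∧ root i j ≠ chevG2.neg (root k l) ∧ chevG2.commTerms (root k l) (root i j) = [] := by
  decide +kernel

theorem root_sum : ∀ i j l : Fin 3, i ≠ j → j ≠ l → i ≠ l →
    root i j ≠ root j l ∧ root i j ≠ chevG2.neg (root j l) ∧
      chevG2.commTerms (root j l) (root i j) = [(root i l, -1, 1, 1)] := by
  decide +kernel

theorem root_neg : ∀ i j : Fin 3, i ≠ j → chevG2.neg (root i j) = root j i := by decide +kernel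

variable {K : Type*} [Field K]

theorem comm_eq (r s : ℕ) (hr : r < chevG2.nroots) (hs : s < chevG2.nroots) (h1 : s ≠ r)
    (h2 : s ≠ chevG2.neg r) (t u : K) :
    G2.struct.ok.xG s t * G2.struct.ok.xG r u * (G2.struct.ok.xG s t)⁻¹ * (G2.struct.ok.xG r u)⁻¹ =
      G2.struct.ok.wG (chevG2.commWord K r s (-u) (-t)) := by
  have S := G2.struct
  have h := S.ok.commRel S.chain S.base hr hs h1 h2 (-u) (-t)
  unfold Ok.CommRel at *
  rw [S.ok.xG_inv, S.ok.xG_inv] at *
  simp only [mul_assoc] at h ⊢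
  rw [h]
  simp only [← mul_assoc, S.ok.xG_mul]
  group
  simp [S.ok.xG_inv, S.ok.xG_mul]

variable [Finite K]

theorem exists_psi : ∃ Ψ : SpecialLinearGroup (Fin 3) K →* GL chevG2.Idx K,
    ∀ (i j : Fin 3) (h : i ≠ j) (t : K),
      Ψ (SpecialLinearGroup.transvection h t) = G2.struct.ok.xG (root i j) t := by
  classical
  have S := G2.struct
  obtain ⟨e, he⟩ := Cfsg.Agent.S2401.result (K := K) 3 le_rfl
  let f : {ij : Fin 3 × Fin 3 // ij.1 ≠ ij.2} × K → GL chevG2.Idx K :=
    fun p => S.ok.xG (root p.1.1.1 p.1.1.2) p.2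
  refine ⟨(PresentedGroup.toGroup (f := f) ?_).comp e.symm.toMonoidHom, fun i j h t => ?_⟩
  · rintro r ((⟨a, t, u, rfl⟩ | ⟨⟨⟨i, j⟩, hij⟩, ⟨⟨k, l⟩, hkl⟩, t, u, h1, h2, rfl⟩) |
      ⟨⟨⟨i, j⟩, hij⟩, ⟨⟨k, l⟩, hkl⟩, hil, t, u, h2, rfl⟩)
    · simp only [map_mul, map_inv, FreeGroup.lift_apply_of, f, S.ok.xG_mul, mul_inv_cancel]
    · simp only [map_mul, map_inv, FreeGroup.lift_apply_of, f]
      by_cases he : (i, j) = (k, l)
      · obtain ⟨rfl, rfl⟩ := Prod.mk.injEq .. ▸ he
        rw [S.ok.xG_mul, S.ok.xG_inv, S.ok.xG_inv, S.ok.xG_mul, S.ok.xG_mul]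
        simp
      obtain ⟨a1, a2, a3⟩ := root_far i j k l hij hkl h1 h2 he
      rw [comm_eq _ _ (root_lt k l) (root_lt i j) a1 a2, ChevalleyDatum.commWord, a3]
      rfl
    · simp only at h2
      subst h2
      simp only [map_mul, map_inv, FreeGroup.lift_apply_of, f]
      obtain ⟨a1, a2, a3⟩ := root_sum i j l hij hkl hil
      rw [comm_eq _ _ (root_lt j l) (root_lt i j) a1 a2, ChevalleyDatum.commWord, a3]
      simp only [Ok.wG, List.map_cons, List.map_nil, List.prod_cons, List.prod_nil, mul_one, pow_one,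
        Int.cast_neg, Int.cast_one, neg_neg, one_mul]
      rw [S.ok.xG_inv, S.ok.xG_mul, show (-1 : K) * u * -t + -(t * u) = 0 by ring, S.ok.xG_zero]
  · have h1 : e (PresentedGroup.of (⟨(i, j), h⟩, t)) = SpecialLinearGroup.transvection h t :=
      Subtype.ext (he ⟨(i, j), h⟩ t)
    rw [MonoidHom.comp_apply, MulEquiv.coe_toMonoidHom, ← h1, MulEquiv.symm_apply_apply,
      PresentedGroup.toGroup.of]

/-- The homomorphism. -/
noncomputable def psi (K : Type*) [Field K] [Finite K] : SpecialLinearGroup (Fin 3) K →* GL chevG2.Idx K :=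
  exists_psi.choose

theorem psi_transvection {i j : Fin 3} (h : i ≠ j) (t : K) :
    psi K (SpecialLinearGroup.transvection h t) = G2.struct.ok.xG (root i j) t :=
  exists_psi.choose_spec i j h t

theorem range_psi_le : (psi K).range ≤ chevG2.group K := by
  rw [MonoidHom.range_eq_map, Subgroup.map_le_iff_le_comap]
  refine (Cfsg.Lib.Classical.eq_top_of_transvection_mem _ fun i j h c => ?_).ge
  show psi K _ ∈ chevG2.group K
  rw [psi_transvection]
  exact G2.struct.ok.xG_mem_group _ _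

/-- A diagonal matrix of determinant one. -/
def dia (d : Fin 3 → Kˣ) (hd : ∏ x, d x = 1) : SpecialLinearGroup (Fin 3) K :=
  ⟨diagonal fun x => (d x : K), by rw [det_diagonal, ← Units.coe_prod, hd, Units.val_one]⟩

/-- The element `w_{ij}(s) w_{ij}(-1)`. -/
def hElt {i j : Fin 3} (h : i ≠ j) (s : K) : SpecialLinearGroup (Fin 3) K :=
  SpecialLinearGroup.transvection h s * SpecialLinearGroup.transvection h.symm (-s⁻¹) *
    SpecialLinearGroup.transvection h s *
    (SpecialLinearGroup.transvection h (-1) * SpecialLinearGroup.transvection h.symm 1 *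
      SpecialLinearGroup.transvection h (-1))

theorem psi_hElt {i j : Fin 3} (h : i ≠ j) (s : K) : psi K (hElt h s) = G2.struct.ok.hG (root i j) s := by
  simp only [hElt, map_mul, psi_transvection, Ok.hG, Ok.nG, root_neg i j h, inv_neg, inv_one, neg_neg]

theorem coe_hElt_zero {s : K} (hs : s ≠ 0) :
    ((hElt (show (0 : Fin 3) ≠ 1 by decide) s : SpecialLinearGroup (Fin 3) K) : Matrix (Fin 3) (Fin 3) K) =
      diagonal ![s, s⁻¹, 1] := by
  show Matrix.transvection (0 : Fin 3) 1 s * Matrix.transvection (1 : Fin 3) 0 (-s⁻¹) * Matrix.transvection (0 : Fin 3) 1 s *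
    (Matrix.transvection (0 : Fin 3) 1 (-1) * Matrix.transvection (1 : Fin 3) 0 (1 : K) * Matrix.transvection (0 : Fin 3) 1 (-1)) = _
  ext x y
  fin_cases x <;> fin_cases y <;>
    simp [Matrix.mul_apply, Fin.sum_univ_three, Matrix.transvection, Matrix.single_apply, Matrix.one_apply, hs]

theorem coe_hElt_one {s : K} (hs : s ≠ 0) :
    ((hElt (show (1 : Fin 3) ≠ 2 by decide) s : SpecialLinearGroup (Fin 3) K) : Matrix (Fin 3) (Fin 3) K) =
      diagonal ![1, s, s⁻¹] := by
  show Matrix.transvection (1 : Fin 3) 2 s * Matrix.transvection (2 : Fin 3) 1 (-s⁻¹) * Matrix.transvection (1 : Fin 3) 2 s *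
    (Matrix.transvection (1 : Fin 3) 2 (-1) * Matrix.transvection (2 : Fin 3) 1 (1 : K) * Matrix.transvection (1 : Fin 3) 2 (-1)) = _
  ext x y
  fin_cases x <;> fin_cases y <;>
    simp [Matrix.mul_apply, Fin.sum_univ_three, Matrix.transvection, Matrix.single_apply, Matrix.one_apply, hs]

theorem dia_eq (d : Fin 3 → Kˣ) (hd : ∏ x, d x = 1) :
    dia d hd = hElt (show (0 : Fin 3) ≠ 1 by decide) (d 0 : K) *
      hElt (show (1 : Fin 3) ≠ 2 by decide) ((d 0 : K) * d 1) := by
  have h2 : (d 2 : K) = ((d 0 : K) * d 1)⁻¹ := by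
    rw [Fin.prod_univ_three] at hd
    have := congrArg (Units.val) hd
    push_cast at this
    exact eq_inv_of_mul_eq_one_right this
  have ha := (d 0).ne_zero
  have hb := (d 1).ne_zero
  refine Subtype.ext ?_
  show diagonal (fun x => (d x : K)) =
    ((hElt (show (0 : Fin 3) ≠ 1 by decide) (d 0 : K) : SpecialLinearGroup (Fin 3) K) : Matrix (Fin 3) (Fin 3) K) *
      ((hElt (show (1 : Fin 3) ≠ 2 by decide) ((d 0 : K) * d 1) : SpecialLinearGroup (Fin 3) K) : Matrix (Fin 3) (Fin 3) K)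
  rw [coe_hElt_zero ha, coe_hElt_one (mul_ne_zero ha hb), diagonal_mul_diagonal]
  congr 1
  funext x
  fin_cases x <;> simp [h2]

theorem eta_one : G2.cert.eta 0 6 = 1 ∨ G2.cert.eta 0 6 = -1 := by decide +kernel

theorem w_six : G2.cert.w 0 6 = 10 ∧ G2.cert.w 0 5 = 1 ∧ G2.cert.eta 0 5 = G2.cert.eta 0 6 ∧
    chevG2.neg 6 = 5 ∧ chevG2.neg 10 = 1 ∧ chevG2.simple 0 = 7 ∧ chevG2.simple 1 = 6 := by decide +kernel

theorem cartan_simple : chevG2.cartan 1 (chevG2.simple 0) = -1 := by decide +kernel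

/-- Torus parameters of a diagonal matrix. -/
def coef (d : Fin 3 → Kˣ) : Fin chevG2.rank → Kˣ :=
  fun i => if i.val = 0 then d 0 * d 1 else d 0 * d 0 * d 1

theorem hG_six (s : Kˣ) : G2.struct.ok.hG 6 (s : K) = Ok.tG chevG2 K (Pi.mulSingle ⟨1, by decide⟩ s) := by
  obtain ⟨-, -, -, -, -, -, e⟩ := w_six
  rw [← e]
  exact G2.struct.ok.hG_simple_eq_tG ⟨1, by decide⟩ s

theorem hG_ten (s : Kˣ) : G2.struct.ok.hG 10 (s : K) = Ok.tG chevG2 K (fun _ => s) := by
  classical
  have S := G2.struct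
  obtain ⟨w6, w5, e5, n6, n10, s0, s1⟩ := w_six
  set n := S.ok.nG (chevG2.simple 0) (1 : K)
  set η := (G2.cert.eta 0 6 : K)
  have hn : ∀ u : K, n * S.ok.nG 6 u * n⁻¹ = S.ok.nG 10 (η * u) := by
    intro u
    have e1 := S.ok.conj_nG_xG (F := K) (i := 0) (by decide) (show 6 < chevG2.nroots by decide)
    have e2 := S.ok.conj_nG_xG (F := K) (i := 0) (by decide) (show 5 < chevG2.nroots by decide)
    simp only [Ok.nG, n6, n10]
    rw [show ∀ a b c : GL chevG2.Idx K, n * (a * b * c) * n⁻¹ = n * a * n⁻¹ * (n * b * n⁻¹) * (n * c * n⁻¹) from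
      fun a b c => by group, e1, e2, w6, w5, e5]
    congr 3
    rcases eta_one with h | h <;> simp [η, h]
  have key : S.ok.hG 10 (s : K) = n * S.ok.hG 6 (s : K) * n⁻¹ := by
    rcases eta_one with h | h
    · have hη : η = 1 := by simp [η, h]
      rw [Ok.hG, Ok.hG, show ∀ a b : GL chevG2.Idx K, n * (a * b) * n⁻¹ = n * a * n⁻¹ * (n * b * n⁻¹) from
        fun a b => by group, hn, hn, hη, one_mul, one_mul]
    · have hη : η = -1 := by simp [η, h]
      have e : S.ok.hG 6 (s : K) = S.ok.nG 6 (-s : K) * S.ok.nG 6 1 := by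
        have h1 : S.ok.nG 6 (-s : K) = S.ok.hG 6 (-s : K) * S.ok.nG 6 1 := by
          rw [← s1]; exact S.ok.nG_eq_hG_mul (by decide) (neg_ne_zero.2 s.ne_zero)
        have h2 : S.ok.nG 6 (-1 : K) = S.ok.hG 6 (-1 : K) * S.ok.nG 6 1 := by
          rw [← s1]; exact S.ok.nG_eq_hG_mul (by decide) (neg_ne_zero.2 one_ne_zero)
        have h3 : S.ok.nG 6 (1 : K) * S.ok.nG 6 (-1 : K) = 1 := by
          have e : S.ok.nG 6 (-1 : K) = (S.ok.nG 6 (1 : K))⁻¹ := by
            simp only [Ok.nG, inv_one, inv_neg, neg_neg, n6, _root_.mul_inv_rev, S.ok.xG_inv, mul_assoc]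
          rw [e, mul_inv_cancel]
        have h4 : S.ok.hG 6 (-1 : K) * S.ok.nG 6 1 * S.ok.nG 6 1 = 1 := by
          rw [← h2]
          exact mul_eq_one_comm.1 h3
        have hm : S.ok.hG 6 (-s : K) = S.ok.hG 6 (s : K) * S.ok.hG 6 (-1 : K) := by
          have := hG_six (K := K) (-s)
          rw [Units.val_neg] at this
          rw [this, hG_six, show S.ok.hG 6 (-1 : K) = S.ok.hG 6 (((-1 : Kˣ)) : K) by simp, hG_six, ← map_mul,
            ← Pi.mulSingle_mul, mul_neg_one]
        rw [h1, hm]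
        rw [mul_assoc, mul_assoc, ← mul_assoc (S.ok.hG 6 (-1 : K)), h4, mul_one]
      rw [e, show ∀ a b : GL chevG2.Idx K, n * (a * b) * n⁻¹ = n * a * n⁻¹ * (n * b * n⁻¹) from
        fun a b => by group, hn, hn, hη, Ok.hG]
      simp
  rw [key, hG_six]
  show S.ok.nG (chevG2.simple (⟨0, by decide⟩ : Fin chevG2.rank).val) 1 * _ * _ = _
  rw [S.ok.conj_nG_tG]
  congr 1
  funext i
  have hc : chevG2.cartan 1 (chevG2.simple 0) = -1 := cartan_simple
  have h2 : ∀ j : Fin chevG2.rank, j.val ≠ 1 → j.val = 0 := fun j hj => by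
    have := j.isLt; have : chevG2.rank = 2 := rfl; omega
  rw [Pi.mul_apply, Finset.prod_eq_single (⟨1, by decide⟩ : Fin chevG2.rank)]
  · by_cases hi : i.val = 1
    · rw [show i = ⟨1, by decide⟩ from Fin.ext hi]; simp [Pi.mulSingle_apply, Fin.ext_iff]
    · rw [show i = ⟨0, by decide⟩ from Fin.ext (h2 i hi)]; simp [Pi.mulSingle_apply, Fin.ext_iff, hc]
  · intro j _ hj; simp [Pi.mulSingle_eq_of_ne hj]
  · simp

theorem psi_dia (d : Fin 3 → Kˣ) (hd : ∏ x, d x = 1) :
    psi K (dia d hd) = Ok.tG chevG2 K (coef d) := by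
  rw [dia_eq, map_mul, psi_hElt, psi_hElt, ← Units.val_mul,
    show root 0 1 = 6 from rfl, show root 1 2 = 10 from rfl, hG_six, hG_ten, ← map_mul]
  congr 1
  funext i
  simp only [coef, Pi.mul_apply, Pi.mulSingle_apply, Fin.ext_iff]
  have : i.val < 2 := i.isLt
  rcases Nat.lt_or_ge i.val 1 with h | h
  · simp [show i.val = 0 by omega]
  · simp [show i.val = 1 by omega, mul_assoc]

theorem map_psi {L : Type*} [Field L] [Finite L] (f : K →+* L) (g : SpecialLinearGroup (Fin 3) K) :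
    Matrix.GeneralLinearGroup.map f (psi K g) = psi L (SpecialLinearGroup.map f g) := by
  have h := Cfsg.Lib.Classical.eq_top_of_transvection_mem
    (((Matrix.GeneralLinearGroup.map f).comp (psi K)).eqLocus ((psi L).comp (SpecialLinearGroup.map f))) ?_
  · have h2 : g ∈ (⊤ : Subgroup _) := Subgroup.mem_top g
    rw [← h] at h2
    exact h2
  intro i j hij c
  show Matrix.GeneralLinearGroup.map f (psi K _) = psi L _
  have e : SpecialLinearGroup.map f (SpecialLinearGroup.transvection hij c) =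
      SpecialLinearGroup.transvection hij (f c) := by
    refine Subtype.ext ?_
    ext a b
    show f (Matrix.transvection i j c a b) = Matrix.transvection i j (f c) a b
    simp [Matrix.transvection, Matrix.single_apply, Matrix.one_apply, apply_ite f]
  rw [e, psi_transvection, psi_transvection]
  refine Units.ext ?_
  rw [G2.struct.ok.val_xG, ← Ok.map_x chevG2 f, ← G2.struct.ok.val_xG]
  rfl

end Cfsg.Lib.Chev.Singer
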