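import Cfsg.Agent.Chev.Singer.Hom
import Cfsg.Agent.Chev.Singer.Cent
import Cfsg.Agent.Chev.Singer.Arith
import Cfsg.Agent.Chev.St.CenterData
import Cfsg.Agent.Chev.St.Center
import Mathlib.FieldTheory.Finite.Extension

/-! The self-centralizing cyclic subgroup of order `q² + q + 1` of `G₂(q)`. -/

set_option autoImplicit false

open Cfsg.Lie

namespace Cfsg.Lib.Chev.Singer

open Matrix

section Diagonal

variable {K : Type*} [Field K] [Finite K]

theorem tG_injective : Function.Injective (Ok.tG chevG2 K) :=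
  (MonoidHom.ker_eq_bot_iff _).1 (St.torus_ker_trivial G2.struct.ok St.okTorus_G2)

theorem coef_injective {d e : Fin 3 → Kˣ} (hd : ∏ x, d x = 1) (he : ∏ x, e x = 1) (h : coef d = coef e) :
    d = e := by
  have h0 : d 0 * d 1 = e 0 * e 1 := by simpa [coef] using congrFun h ⟨0, by decide⟩
  have h1 : d 0 * d 0 * d 1 = e 0 * e 0 * e 1 := by simpa [coef] using congrFun h ⟨1, by decide⟩
  rw [mul_assoc, h0, mul_assoc] at h1
  have a0 : d 0 = e 0 := mul_right_cancel h1
  have a1 : d 1 = e 1 := by rw [a0] at h0; exact mul_left_cancel h0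
  rw [Fin.prod_univ_three] at hd he
  have a2 : d 2 = e 2 := by rw [a0, a1, ← he] at hd; exact mul_left_cancel hd
  funext x
  fin_cases x <;> assumption

theorem coef_surj (c : Fin chevG2.rank → Kˣ) : ∃ e : Fin 3 → Kˣ, (∏ x, e x = 1) ∧ coef e = c := by
  obtain ⟨a, ha⟩ : ∃ a, a = c ⟨0, by decide⟩ := ⟨_, rfl⟩
  obtain ⟨b, hb⟩ : ∃ b, b = c ⟨1, by decide⟩ := ⟨_, rfl⟩
  refine ⟨![b * a⁻¹, a * (b * a⁻¹)⁻¹, a⁻¹], ?_, ?_⟩
  · simp [Fin.prod_univ_three]
  · funext i
    have : i.val < 2 := i.isLt
    rcases Nat.lt_or_ge i.val 1 with h | h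
    · rw [show i = ⟨0, by decide⟩ from Fin.ext (by simpa using h)]
      simp [coef, ← ha, mul_comm]
    · rw [show i = ⟨1, by decide⟩ from Fin.ext (show i.val = 1 by omega)]
      refine Units.ext ?_
      simp [coef, ← hb]
      field_simp

theorem coef_pow (d : Fin 3 → Kˣ) (k : ℕ) : coef (d ^ k) = coef d ^ k := by
  funext i
  simp only [coef, Pi.pow_apply]
  split <;> simp [mul_pow]

theorem dia_pow (d : Fin 3 → Kˣ) (hd : ∏ x, d x = 1) (k : ℕ) (hk : ∏ x, (d ^ k) x = 1) :
    dia (d ^ k) hk = dia d hd ^ k := by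
  refine Subtype.ext ?_
  show diagonal (fun x => ((d ^ k) x : K)) = ((dia d hd ^ k : SpecialLinearGroup (Fin 3) K) : Matrix _ _ K)
  show _ = diagonal (fun x => (d x : K)) ^ k
  rw [diagonal_pow]
  simp [Pi.pow_def]

end Diagonal

theorem map_mem_group {F K : Type*} [Field F] [Field K] (f : F →+* K) {g : GL chevG2.Idx F}
    (hg : g ∈ chevG2.group F) : Matrix.GeneralLinearGroup.map f g ∈ chevG2.group K := by
  have hle : chevG2.group F ≤ (chevG2.group K).comap (Matrix.GeneralLinearGroup.map f) := by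
    refine (Subgroup.closure_le _).2 ?_
    rintro x ⟨r, t, hr⟩
    show Matrix.GeneralLinearGroup.map f x ∈ chevG2.group K
    refine Subgroup.subset_closure ⟨r, f t, ?_⟩
    have hxF : chevG2.x F r t = chevG2.xMat F r t := dif_pos r.isLt
    have hxK : chevG2.x K r (f t) = chevG2.xMat K r (f t) := dif_pos r.isLt
    rw [← hxK, ← Ok.map_x chevG2 f, hxF, ← hr]
    rfl
  exact hle hg

theorem gl_map_injective {F K : Type*} [Field F] [Field K] (f : F →+* K) :
    Function.Injective (Matrix.GeneralLinearGroup.map (n := chevG2.Idx) f) := by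
  intro a b h
  refine Units.ext ?_
  ext x y
  exact f.injective (Matrix.ext_iff.2 (congrArg Units.val h) x y)

variable {F K : Type*} [Field F] [Finite F] [Field K] [Finite K] [Algebra F K]

/-- The conjugate of a matrix by the shift of its columns. -/
theorem shift_comm {P : Matrix (Fin 3) (Fin 3) K} (e : Fin 3 → K) :
    P.submatrix id (fun j => j + 1) * diagonal (fun j => e (j + 1)) = (P * diagonal e).submatrix id (fun j => j + 1) := by
  ext x j
  simp [Matrix.mul_diagonal]

theorem exists_frame (hF : Module.finrank F K = 3) (σ : K →+* K) (hσ : ∀ x, σ x = x ^ Nat.card F)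
    (hfix : ∀ x, σ x = x → x ∈ Set.range (algebraMap F K)) :
    ∃ P : SpecialLinearGroup (Fin 3) K, ∀ x j, σ (P.1 x j) = P.1 x (j + 1) := by
  classical
  have : Module.Finite F K := Module.Finite.of_finite
  let b : Module.Basis (Fin 3) F K := (Module.finBasis F K).reindex (finCongr hF)
  have hq : 1 < Nat.card F := Finite.one_lt_card
  have hK : Nat.card K = Nat.card F ^ 3 := by rw [Module.natCard_eq_pow_finrank (K := F), hF]
  have hperiod : ∀ x : K, x ^ (Nat.card F ^ 3) = x := fun x => by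
    have := Fintype.ofFinite K
    rw [← hK, Nat.card_eq_fintype_card]
    exact FiniteField.pow_card x
  let s : Fin 3 → (K →* K) := fun j => powMonoidHom (Nat.card F ^ j.val)
  have hs : Function.Injective s := by
    obtain ⟨u, hu⟩ := IsCyclic.exists_ofOrder_eq_natCard (α := Kˣ)
    intro i j h
    have e : u ^ (Nat.card F ^ i.val) = u ^ (Nat.card F ^ j.val) :=
      Units.ext (by simpa [s] using DFunLike.congr_fun h (u : K))
    have hlt : ∀ k : Fin 3, Nat.card F ^ k.val < orderOf u := fun k => by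
      rw [hu, Nat.card_units, hK]
      have h2 : Nat.card F ^ k.val ≤ Nat.card F ^ 2 := Nat.pow_le_pow_right (by omega) (by omega)
      have h3 : Nat.card F ^ 2 * 2 ≤ Nat.card F ^ 3 := by rw [pow_succ _ 2]; exact Nat.mul_le_mul_left _ hq
      have h4 : 4 ≤ Nat.card F ^ 2 := by nlinarith
      omega
    exact Fin.ext (Nat.pow_right_injective hq (pow_injOn_Iio_orderOf (hlt i) (hlt j) e))
  let P : Matrix (Fin 3) (Fin 3) K := fun x j => s j (b x)
  have hσs : ∀ j x, σ (s j x) = s (j + 1) x := by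
    intro j x
    simp only [s, powMonoidHom_apply, hσ, ← pow_mul, ← pow_succ]
    fin_cases j <;> simp [hperiod]
  have hσa : ∀ a : F, σ (algebraMap F K a) = algebraMap F K a := fun a => by
    have := Fintype.ofFinite F
    rw [hσ, ← map_pow, Nat.card_eq_fintype_card, FiniteField.pow_card]
  have hdet : P.det ≠ 0 := by
    intro h0
    obtain ⟨v, hv, hv0⟩ := Matrix.exists_mulVec_eq_zero_iff.2 h0
    have hlin : ∀ j, ∃ l : K →ₗ[F] K, ∀ x, l x = s j x := by
      intro j
      have hpow : ∀ (n : ℕ) (x : K), (σ^[n]) x = x ^ (Nat.card F ^ n) := fun n => by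
        induction n with
        | zero => simp
        | succ n ih => intro x; rw [Function.iterate_succ_apply', ih, hσ, ← pow_mul, ← pow_succ]
      refine ⟨⟨⟨fun x => (σ^[j.val]) x, fun x y => by rw [iterate_map_add]⟩, fun a x => ?_⟩, fun x => hpow _ x⟩
      show (σ^[j.val]) (a • x) = a • (σ^[j.val]) x
      rw [Algebra.smul_def, Algebra.smul_def, iterate_map_mul]
      congr 1
      exact Function.iterate_fixed (hσa a) _
    choose l hl using hlin
    have hz : (∑ j, v j • l j : K →ₗ[F] K) = 0 := by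
      refine b.ext fun x => ?_
      have h1 := congrFun hv0 x
      simp only [Matrix.mulVec, dotProduct, Pi.zero_apply] at h1
      simpa [hl, P, mul_comm] using h1
    have hi := ((linearIndependent_monoidHom K K).comp s hs)
    have h2 := Fintype.linearIndependent_iff.1 hi v (funext fun x => by
      simpa [hl] using LinearMap.congr_fun hz x)
    exact hv (funext h2)
  have hsh : P.map σ = P.submatrix id (fun j => j + 1) := by
    ext x j; exact hσs j (b x)
  have hdσ : σ P.det = P.det := by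
    have hsgn : Equiv.Perm.sign (Equiv.addRight (1 : Fin 3)) = 1 := by decide
    rw [RingHom.map_det, show σ.mapMatrix P = P.map σ from rfl, hsh]
    have h := Matrix.det_permute' (Equiv.addRight (1 : Fin 3)) P
    rw [hsgn] at h
    simpa using h
  obtain ⟨a, ha⟩ := hfix _ hdσ
  let r : Fin 3 → K := ![P.det⁻¹, 1, 1]
  refine ⟨⟨diagonal r * P, ?_⟩, fun x j => ?_⟩
  · rw [det_mul, det_diagonal, Fin.prod_univ_three]
    simp [r, hdet]
  · show σ ((diagonal r * P) x j) = (diagonal r * P) x (j + 1)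
    rw [diagonal_mul, diagonal_mul, map_mul]
    show σ (r x) * σ (s j (b x)) = r x * P x (j + 1)
    rw [hσs]
    congr 1
    fin_cases x <;> simp [r, hdσ]

theorem map_conj_dia {P : SpecialLinearGroup (Fin 3) K} {σ : K →+* K}
    (hP : ∀ x j, σ (P.1 x j) = P.1 x (j + 1)) {e f : Fin 3 → Kˣ} (he : ∏ x, e x = 1) (hf : ∏ x, f x = 1)
    (hef : ∀ j, σ (e j : K) = f (j + 1)) :
    SpecialLinearGroup.map σ (P * dia e he * P⁻¹) = P * dia f hf * P⁻¹ := by
  rw [eq_mul_inv_iff_mul_eq]
  refine Subtype.ext ?_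
  set Y := P * dia e he * P⁻¹ with hY
  have h1 : (SpecialLinearGroup.map σ Y).1 * (P.1.map σ) = P.1.map σ * diagonal (fun j => σ (e j : K)) := by
    have h : (Y.1 * P.1).map σ = (P.1 * (dia e he).1).map σ :=
      congrArg (fun z : SpecialLinearGroup (Fin 3) K => z.1.map σ) (show Y * P = P * dia e he by simp [hY])
    rw [Matrix.map_mul, Matrix.map_mul] at h
    rw [show (SpecialLinearGroup.map σ Y).1 = Y.1.map σ from rfl, h]
    congr 1
    show (diagonal fun j => (e j : K)).map σ = _
    rw [diagonal_map (map_zero σ)]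
  have hsh : P.1.map σ = P.1.submatrix id (fun j => j + 1) := by ext x j; exact hP x j
  simp only [hef] at h1
  rw [hsh, shift_comm (fun j => (f j : K))] at h1
  have h2 : ((SpecialLinearGroup.map σ Y).1 * P.1).submatrix id (fun j => j + 1) =
      (P.1 * diagonal (fun j => (f j : K))).submatrix id (fun j => j + 1) := by
    rw [← h1]; rfl
  show (SpecialLinearGroup.map σ Y).1 * P.1 = P.1 * diagonal fun j => (f j : K)
  ext x j
  have h3 := congrFun (congrFun h2 x) (j - 1)
  rw [Matrix.submatrix_apply, Matrix.submatrix_apply, sub_add_cancel, id_eq] at h3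
  exact h3

theorem exists_singer (hF : Module.finrank F K = 3) (hq : 3 ≤ Nat.card F) (σ : K →+* K)
    (hσ : ∀ x, σ x = x ^ Nat.card F) (hfix : ∀ x, σ x = x → x ∈ Set.range (algebraMap F K)) :
    ∃ x0 ∈ chevG2.group F, orderOf x0 = Nat.card F ^ 2 + Nat.card F + 1 ∧
      ∀ g ∈ chevG2.group F, g * x0 = x0 * g → g ∈ Subgroup.zpowers x0 := by
  classical
  set q := Nat.card F with hqdef
  set N := q ^ 2 + q + 1 with hN
  have : Module.Finite F K := Module.Finite.of_finite
  have hK : Nat.card Kˣ = (q - 1) * N := by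
    rw [Nat.card_units, Module.natCard_eq_pow_finrank (K := F), hF, ← hqdef, hN]
    have : 1 ≤ q ^ 3 := Nat.one_le_pow _ _ (by omega)
    have h1 : 1 ≤ q := by omega
    zify [this, h1]; ring
  obtain ⟨u, hu⟩ := IsCyclic.exists_ofOrder_eq_natCard (α := Kˣ)
  obtain ⟨lam, hlam', hlam⟩ : ∃ lam : Kˣ, lam = u ^ (q - 1) ∧ orderOf lam = N := by
    refine ⟨_, rfl, ?_⟩
    rw [orderOf_pow, hu, hK, Nat.gcd_mul_right_left, Nat.mul_div_cancel_left _ (by omega)]
  have hNz : ((q : ℤ) ^ 2 + q + 1) = (N : ℤ) := by rw [hN]; push_cast; rfl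
  let d : Fin 3 → Kˣ := ![lam, lam ^ q, lam ^ q ^ 2]
  have hlN : lam ^ N = 1 := hlam ▸ pow_orderOf_eq_one lam
  have hd : ∏ x, d x = 1 := by
    rw [Fin.prod_univ_three, ← hlN, hN]
    simp [d, pow_add, mul_assoc]
    simp [← mul_assoc, mul_comm]
  have hdσ : ∀ j, σ (d j : K) = d (j + 1) := by
    have h3 : lam ^ q ^ 3 = lam := by
      have e : q ^ 3 = (q - 1) * N + 1 := by
        have h1 : 1 ≤ q := by omega
        rw [hN]; zify [h1]; ring
      rw [e, pow_succ, mul_comm (q - 1), pow_mul, hlN, one_pow, one_mul]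
    intro j
    rw [hσ, ← Units.val_pow_eq_pow_val]
    congr 1
    fin_cases j <;> simp [d, ← pow_mul, ← pow_succ, ← pow_two]
    exact h3
  obtain ⟨P, hP⟩ := exists_frame hF σ hσ hfix
  set X := P * dia d hd * P⁻¹ with hX
  have hXσ : SpecialLinearGroup.map σ X = X := map_conj_dia hP hd hd hdσ
  have hM : ∀ x y, ∃ a, algebraMap F K a = X.1 x y := fun x y =>
    hfix _ (congrFun (congrFun (congrArg Subtype.val hXσ) x) y)
  choose M hM using hM
  let X0 : SpecialLinearGroup (Fin 3) F := ⟨Matrix.of M, (algebraMap F K).injective (by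
    rw [RingHom.map_det, map_one, ← X.2]
    congr 1
    ext x y
    exact hM x y)⟩
  have hX0 : SpecialLinearGroup.map (algebraMap F K) X0 = X := Subtype.ext (by ext x y; exact hM x y)
  let x0 := psi F X0
  let mapK := Matrix.GeneralLinearGroup.map (n := chevG2.Idx) (algebraMap F K)
  have hmx : mapK x0 = psi K P * Ok.tG chevG2 K (coef d) * (psi K P)⁻¹ := by
    show mapK (psi F X0) = _
    rw [map_psi, hX0, hX, map_mul, map_mul, map_inv, psi_dia]
  have hσmap : ∀ g, Matrix.GeneralLinearGroup.map (n := chevG2.Idx) σ (mapK g) = mapK g := fun g => by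
    refine Units.ext ?_
    ext x y
    show σ (algebraMap F K (g.1 x y)) = algebraMap F K (g.1 x y)
    have := Fintype.ofFinite F
    rw [hσ, ← map_pow, hqdef, Nat.card_eq_fintype_card, FiniteField.pow_card]
  have hord : orderOf x0 = N := by
    rw [← orderOf_injective mapK (gl_map_injective _) x0, hmx, ← MulAut.conj_apply,
      ← MulEquiv.coe_toMonoidHom (MulAut.conj (psi K P)),
      orderOf_injective _ (MulEquiv.injective _) _,
      orderOf_injective _ tG_injective, ← hlam]
    refine orderOf_eq_orderOf_iff.2 fun k => ⟨fun h => ?_, fun h => ?_⟩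
    · rw [← coef_pow] at h
      have hk : ∏ x, (d ^ k) x = 1 := by simp only [Pi.pow_apply, Finset.prod_pow, hd, one_pow]
      have := congrFun (coef_injective hk (by simp) (h.trans (show (1 : Fin chevG2.rank → Kˣ) = coef 1 by
        funext i; simp [coef]))) 0
      simpa [d] using this
    · rw [← coef_pow]
      have : d ^ k = 1 := by
        funext x
        fin_cases x <;> simp [d, ← pow_mul, mul_comm _ k] <;> simp [pow_mul, h]
      rw [this]
      funext i
      simp [coef]
  refine ⟨x0, range_psi_le ⟨X0, rfl⟩, hord, fun g hg hgx => ?_⟩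
  set c := coef d with hc
  have hpsiP : psi K P ∈ chevG2.group K := range_psi_le ⟨P, rfl⟩
  have hh : (psi K P)⁻¹ * mapK g * psi K P ∈ chevG2.diagonalSubgroup K := by
    have hz : ∀ r, chi chevG2 c r = lam ^ expo q r := by
      intro r
      show ∏ i : Fin 2, coef d i ^ chevG2.cartan i.val r = _
      rw [Fin.prod_univ_two]
      have e0 : coef d (⟨0, by decide⟩ : Fin chevG2.rank) = lam ^ ((1 : ℤ) + q) := by
        simp [coef, d, _root_.zpow_add, _root_.zpow_two, pow_two]
      have e1 : coef d (⟨1, by decide⟩ : Fin chevG2.rank) = lam ^ ((2 : ℤ) + q) := by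
        rw [show ((2 : ℤ) + q) = 1 + 1 + q by ring]
        simp [coef, d, _root_.zpow_add, _root_.zpow_two, pow_two]
      show coef d (⟨0, by decide⟩ : Fin chevG2.rank) ^ _ * coef d (⟨1, by decide⟩ : Fin chevG2.rank) ^ _ = _
      rw [e0, e1, ← _root_.zpow_mul, ← _root_.zpow_mul, ← _root_.zpow_add]
      rfl
    refine G2.struct.centralizer_regular okNeg_G2 (c := c) ?_ ?_
      (mul_mem (mul_mem (inv_mem hpsiP) (map_mem_group _ hg)) hpsiP) ?_
    · intro r hr h
      rw [hz, ← orderOf_dvd_iff_zpow_eq_one, hlam, ← hNz] at h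
      exact (expo_distinct hq hr).1 h
    · intro r hr s hs h
      by_contra hne
      rw [hz, hz, ← mul_inv_eq_one, ← _root_.zpow_sub, ← orderOf_dvd_iff_zpow_eq_one, hlam, ← hNz] at h
      exact (expo_distinct hq hr).2 s hs hne h
    · have h := congrArg mapK hgx
      rw [map_mul, map_mul, hmx] at h
      calc (psi K P)⁻¹ * mapK g * psi K P * Ok.tG chevG2 K c
          = (psi K P)⁻¹ * (mapK g * (psi K P * Ok.tG chevG2 K c * (psi K P)⁻¹)) * psi K P := by group
        _ = _ := by rw [h]; group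
  rw [G2.struct.ok.diagonalSubgroup_eq] at hh
  obtain ⟨c', hc'⟩ := hh
  obtain ⟨e, he, rfl⟩ := coef_surj c'
  have hge : mapK g = psi K (P * dia e he * P⁻¹) := by
    rw [map_mul, map_mul, map_inv, psi_dia, hc']
    group
  let f : Fin 3 → Kˣ := fun j => Units.map σ.toMonoidHom (e (j - 1))
  have hf : ∏ x, f x = 1 := by
    show ∏ x, Units.map σ.toMonoidHom (e (x - 1)) = 1
    rw [← map_prod, Fintype.prod_equiv (Equiv.subRight (1 : Fin 3)) (fun x => e (x - 1)) e (fun x => rfl), he,
      map_one]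
  have hσg : Matrix.GeneralLinearGroup.map σ (psi K (P * dia e he * P⁻¹)) = psi K (P * dia e he * P⁻¹) := by
    rw [← hge]; exact hσmap g
  rw [map_psi, map_conj_dia hP he hf (fun j => by simp [f]), map_mul, map_mul, map_mul _ _ (P⁻¹), map_mul,
    psi_dia, psi_dia] at hσg
  have hfe : f = e := coef_injective hf he (tG_injective (mul_left_cancel (mul_right_cancel hσg)))
  have he1 : ∀ j, e (j + 1) = e j ^ q := fun j => by
    refine Units.ext ?_
    rw [Units.val_pow_eq_pow_val, ← hσ]
    conv_lhs => rw [← hfe]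
    simp [f]
  have e1 : e 1 = e 0 ^ q := he1 0
  have e2 : e 2 = e 0 ^ q ^ 2 := by
    have h := he1 1
    rw [e1, ← pow_mul, ← pow_two] at h
    exact h
  have h0N : e 0 ^ N = 1 := by
    rw [Fin.prod_univ_three, e1, e2] at he
    rw [← he, hN, pow_succ, pow_add]
    ac_rfl
  obtain ⟨k, hk⟩ : ∃ k : ℕ, lam ^ k = e 0 := by
    have htop : Subgroup.zpowers u = ⊤ := Subgroup.eq_top_of_card_eq _ ((Nat.card_zpowers u).trans hu)
    obtain ⟨m, hm⟩ := mem_powers_iff_mem_zpowers.2 (show e 0 ∈ Subgroup.zpowers u from htop ▸ Subgroup.mem_top _)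
    simp only at hm
    have hdvd : (q - 1) * N ∣ m * N := by
      rw [← hK, ← hu, orderOf_dvd_iff_pow_eq_one, pow_mul, hm, h0N]
    obtain ⟨k, rfl⟩ := Nat.dvd_of_mul_dvd_mul_right (by rw [hN]; omega) hdvd
    exact ⟨k, by rw [← hm, hlam', ← pow_mul]⟩
  have hed : e = d ^ k := by
    funext x
    fin_cases x <;> simp [d, e1, e2, ← hk, ← pow_mul, mul_comm k]
  subst hed
  have hgk : mapK g = mapK (x0 ^ k) := by
    rw [hge, dia_pow d hd k he, ← conj_pow, map_pow, map_pow, ← hX, ← hX0, map_psi]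
  rw [gl_map_injective _ hgk]
  exact Subgroup.pow_mem _ (Subgroup.mem_zpowers _) _

end Cfsg.Lib.Chev.Singer
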